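import Mathlib
import Cfsg.Agent.MaxCent.Basic
import Cfsg.Agent.PCore.Basic
import Cfsg.Agent.ZJ.Fpf
import Cfsg.Agent.Hall.StructBatch2
import Cfsg.Agent.S4142
import Cfsg.Agent.QBaer.Main
import Cfsg.Agent.PReduced.Hom

/-!
# The trichotomy for Camina pairs
-/

set_option autoImplicit false
set_option linter.style.haveILetI false
set_option linter.unusedSectionVars false

namespace CfsgLib.CaminaPair

open CfsgLib.MaxCent
open scoped Pointwise

universe u

/-- Outside `N` there is, modulo `N`, a subgroup of type `(r, r)` consisting of `r`-elements. -/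
def HypX {G : Type u} [Group G] (N : Subgroup G) (r : ℕ) : Prop :=
  ∃ X : Subgroup G, N ≤ X ∧ N.relIndex X = r * r ∧ (∀ x ∈ X, x ^ r ∈ N) ∧ ∀ x ∈ X, x ∉ N → IsPElem r x

variable {G : Type u} [Group G] [Finite G]

theorem eq_one_of_isPElem {r : ℕ} (hr : r.Prime) {x : G} (hx : IsPElem r x) {m : ℕ} (hm : ¬ r ∣ m)
    (h : x ^ m = 1) : x = 1 := by
  obtain ⟨k, hk⟩ := hx
  exact orderOf_eq_one_iff.1 (Nat.eq_one_of_dvd_coprimes ((hr.coprime_iff_not_dvd.2 hm).pow_left k)
    (orderOf_dvd_of_pow_eq_one hk) (orderOf_dvd_of_pow_eq_one h))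

/-- No fixed point free section of type `(r, r)`. -/
theorem base {r : ℕ} [hr : Fact r.Prime] {N : Subgroup G} [N.Normal] (hX : HypX N r) (hrN : ¬ r ∣ Nat.card N)
    (hnil : Group.IsNilpotent N) : N = ⊥ := by
  by_contra hN
  obtain ⟨X, hNX, hidx, hexp, hout⟩ := hX
  set V : Subgroup G := (Subgroup.center ↥N).map N.subtype with hV
  haveI := hnil
  haveI : Nontrivial N := (Subgroup.nontrivial_iff_ne_bot N).2 hN
  have hV0 : V ≠ ⊥ := by
    rw [hV, Ne, Subgroup.map_eq_bot_iff_of_injective _ N.subtype_injective]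
    exact Group.IsNilpotent.center_ne_bot _
  haveI hVn : V.Normal := inferInstance
  haveI : IsMulCommutative V := by
    refine ⟨⟨?_⟩⟩
    rintro ⟨_, a, ha, rfl⟩ ⟨_, b, hb, rfl⟩
    exact Subtype.ext (congrArg Subtype.val (Subgroup.mem_center_iff.1 hb a) :)
  obtain ⟨U⟩ : Nonempty (Sylow r X) := inferInstance
  set A : Subgroup G := (U : Subgroup X).map X.subtype with hA
  have hAX : A ≤ X := Subgroup.map_subtype_le _
  have hAp : IsPGroup r A := U.2.map _
  have hcardX : Nat.card X = Nat.card N * (r * r) := by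
    rw [← hidx, ← Subgroup.relIndex_bot_left N, ← Subgroup.relIndex_bot_left X,
      Subgroup.relIndex_mul_relIndex _ _ _ bot_le hNX]
  have hcardA : Nat.card A = r * r := by
    rw [hA, Subgroup.card_map_of_injective X.subtype_injective, U.card_eq_multiplicity, hcardX,
      Nat.factorization_mul Nat.card_pos.ne' (Nat.mul_ne_zero hr.out.ne_zero hr.out.ne_zero), Finsupp.add_apply,
      Nat.factorization_eq_zero_of_not_dvd hrN, zero_add, show r * r = r ^ 2 by ring,
      hr.out.factorization_pow, Finsupp.single_eq_same]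
  have hAN : ∀ a ∈ A, a ∈ N → a = 1 := by
    intro a ha haN
    refine eq_one_of_isPElem hr.out (QBaer.isPElem_of_mem hAp ha) hrN ?_
    exact congrArg Subtype.val (pow_card_eq_one' (x := (⟨a, haN⟩ : N)))
  have hfpf : ∀ a ∈ A, a ≠ 1 → V ⊓ Subgroup.centralizer {a} = ⊥ := by
    intro a ha ha1
    rw [eq_bot_iff]
    rintro v ⟨hv, hva⟩
    have hvN : v ∈ N := Subgroup.map_subtype_le _ hv
    have haN : a ∉ N := fun h => ha1 (hAN a ha h)
    obtain ⟨k, hk⟩ := hout (a * v) (X.mul_mem (hAX ha) (hNX hvN))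
      (fun h => haN (by simpa using N.mul_mem h (N.inv_mem hvN)))
    obtain ⟨l, hl⟩ := QBaer.isPElem_of_mem hAp ha
    have hcomm : Commute a v := (Subgroup.mem_centralizer_singleton_iff.1 hva).symm
    refine Subgroup.mem_bot.2 (eq_one_of_isPElem hr.out ⟨k + l, ?_⟩ hrN
      (congrArg Subtype.val (pow_card_eq_one' (x := (⟨v, hvN⟩ : N)))))
    have h1 : (a * v) ^ r ^ (k + l) = 1 := by rw [pow_add, pow_mul, hk, one_pow]
    rw [hcomm.mul_pow, add_comm k l, pow_add, pow_mul a, hl, one_pow, one_mul, ← pow_add] at h1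
    rw [add_comm k l]
    exact h1
  obtain ⟨g, hg⟩ := (Hall.Struct.fpf_abelian_cyclic A V hV0
    (fun x _ => Subgroup.mem_normalizer_iff.2 fun v => ⟨fun h => hVn.conj_mem v h x, fun h => by
      simpa [mul_assoc] using hVn.conj_mem _ h x⁻¹⟩) hfpf
    (Or.inr ⟨r, r, hr.out, hr.out, hcardA⟩)).exists_generator
  have h1 : orderOf g = r * r := by rw [orderOf_eq_card_of_forall_mem_zpowers hg, hcardA]
  have h2 : g ^ r = 1 := by
    refine Subtype.ext ?_
    exact hAN _ (A.pow_mem g.2 r) (hexp _ (hAX g.2))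
  have h3 := Nat.le_of_dvd hr.out.pos (h1 ▸ orderOf_dvd_of_pow_eq_one h2)
  nlinarith [hr.out.two_le]

theorem hyp_quotient {r : ℕ} {N : Subgroup G} [N.Normal] (hX : HypX N r) (W : Subgroup G) [W.Normal] (hWN : W ≤ N) :
    HypX (N.map (QuotientGroup.mk' W)) r := by
  obtain ⟨X, hNX, hidx, hexp, hout⟩ := hX
  refine ⟨X.map (QuotientGroup.mk' W), Subgroup.map_mono hNX, ?_, ?_, ?_⟩
  · rw [Subgroup.relIndex_map_map, QuotientGroup.ker_mk', sup_eq_left.2 hWN, sup_eq_left.2 (hWN.trans hNX), hidx]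
  · rintro _ ⟨x, hx, rfl⟩
    exact ⟨x ^ r, hexp x hx, map_pow _ _ _⟩
  · rintro _ ⟨x, hx, rfl⟩ hxN
    obtain ⟨k, hk⟩ := hout x hx fun h => hxN ⟨x, h, rfl⟩
    exact ⟨k, by rw [← map_pow, hk, map_one]⟩

theorem hyp_subgroup {r : ℕ} {N : Subgroup G} [N.Normal] (hX : HypX N r) (H : Subgroup G) (hH : H ⊔ N = ⊤) :
    HypX (N.subgroupOf H) r := by
  obtain ⟨X, hNX, hidx, hexp, hout⟩ := hX
  refine ⟨(X ⊓ H).subgroupOf H, fun x hx => ⟨hNX hx, x.2⟩, ?_, fun x hx => hexp _ hx.1, fun x hx hxN => ?_⟩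
  · rw [Subgroup.relIndex_subgroupOf inf_le_right, ← Subgroup.relIndex_sup_right, ← hidx]
    congr 1
    refine le_antisymm (sup_le inf_le_left hNX) fun x hx => ?_
    obtain ⟨h, hh, n, hn, rfl⟩ := Subgroup.mem_sup_of_normal_right.1 (hH.ge (Subgroup.mem_top x))
    exact Subgroup.mul_mem_sup ⟨by simpa using X.mul_mem hx (X.inv_mem (hNX hn)), hh⟩ hn
  · obtain ⟨k, hk⟩ := hout _ hx.1 hxN
    exact ⟨k, Subtype.ext hk⟩

theorem eq_bot_of_two_aux {r t : ℕ} [hr : Fact r.Prime] [ht : Fact t.Prime] (hrt : r ≠ t) :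
    ∀ (n : ℕ) (G : Type u) [Group G] [Finite G] (N : Subgroup G), N.Normal → Nat.card N = n →
      HypX N r → HypX N t → N = ⊥ := by
  intro n
  induction n using Nat.strong_induction_on with
  | _ n ih =>
  intro G _ _ N hN hn hr' ht'
  by_contra hne
  haveI := hN
  obtain ⟨s, hs, hsd⟩ := Nat.exists_prime_and_dvd
    (show Nat.card N ≠ 1 from fun h => hne (Subgroup.card_eq_one.1 h))
  haveI := Fact.mk hs
  obtain ⟨S⟩ : Nonempty (Sylow s N) := inferInstance
  set T : Subgroup G := (S : Subgroup N).map N.subtype with hT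
  have hTN : T ≤ N := Subgroup.map_subtype_le _
  have hTp : IsPGroup s T := S.2.map _
  have hT1 : T ≠ ⊥ := by
    rw [hT, Ne, Subgroup.map_eq_bot_iff_of_injective _ N.subtype_injective]
    exact S.ne_bot_of_dvd_card hsd
  set H := Subgroup.normalizer (T : Set G) with hH
  have hHN : H ⊔ N = ⊤ := Sylow.normalizer_sup_eq_top S
  by_cases hNH : N ≤ H
  · haveI : T.Normal := Subgroup.normalizer_eq_top_iff.1 ((sup_eq_left.2 hNH).symm.trans hHN)
    have h1 : Nat.card (N.map (QuotientGroup.mk' T)) < n := by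
      rw [← hn, ← Subgroup.relIndex_bot_left N, ← Subgroup.relIndex_ker, QuotientGroup.ker_mk',
        ← Subgroup.relIndex_mul_relIndex ⊥ T N bot_le hTN, Subgroup.relIndex_bot_left]
      exact lt_mul_left (Nat.pos_of_ne_zero (Subgroup.index_ne_zero_of_finite (H := T.subgroupOf N)))
        (Subgroup.one_lt_card_iff_ne_bot T |>.2 hT1)
    have h2 := ih _ h1 _ _ (hN.map _ (QuotientGroup.mk'_surjective T)) rfl (hyp_quotient hr' T hTN)
      (hyp_quotient ht' T hTN)
    rw [Subgroup.map_eq_bot_iff, QuotientGroup.ker_mk'] at h2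
    have hNT : N = T := le_antisymm h2 hTN
    have hnil : Group.IsNilpotent N := (hNT ▸ hTp : IsPGroup s N).isNilpotent
    obtain ⟨k, hk⟩ := IsPGroup.iff_card.1 (hNT ▸ hTp : IsPGroup s N)
    by_cases hsr : r = s
    · exact hne (base ht' (fun h => hrt (hsr.trans ((Nat.prime_dvd_prime_iff_eq ht.out hs).1
        (ht.out.dvd_of_dvd_pow (hk ▸ h))).symm)) hnil)
    · exact hne (base hr' (fun h => hsr ((Nat.prime_dvd_prime_iff_eq hr.out hs).1
        (hr.out.dvd_of_dvd_pow (hk ▸ h)))) hnil)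
  · have h1 : Nat.card (N.subgroupOf H) < n := by
      rw [← hn, ← Subgroup.inf_subgroupOf_right, Nat.card_congr (Subgroup.subgroupOfEquivOfLe inf_le_right).toEquiv]
      refine lt_of_le_of_ne (Nat.le_of_dvd Nat.card_pos (Subgroup.card_dvd_of_le inf_le_left)) fun e => hNH ?_
      exact inf_eq_left.1 (Subgroup.eq_of_le_of_card_ge inf_le_left e.ge)
    have h2 := ih _ h1 _ _ inferInstance rfl (hyp_subgroup hr' H hHN) (hyp_subgroup ht' H hHN)
    rw [Subgroup.subgroupOf_eq_bot, disjoint_iff, eq_bot_iff] at h2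
    exact hT1 (eq_bot_iff.2 fun x hx => h2 ⟨hTN hx, Subgroup.le_normalizer hx⟩)

/-- An element outside `N` whose image is an `r`-element is an `r`-element. -/
theorem isPElem_of_outside {N : Subgroup G} [N.Normal] (hcam : ∀ g : G, g ∉ N → ∀ n ∈ N, ∃ x : G, x * g * x⁻¹ = g * n)
    {r : ℕ} (hr : r.Prime) {g : G} (hg : g ∉ N) {m : ℕ} (hm : g ^ r ^ m ∈ N) : IsPElem r g := by
  obtain ⟨a, ha⟩ : ∃ a, a = (orderOf g).factorization r := ⟨_, rfl⟩
  set o := orderOf g / r ^ a with ho
  have hod : r ^ a * o = orderOf g := Nat.mul_div_cancel' (ha ▸ Nat.ordProj_dvd _ _)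
  have hcop : ¬ r ∣ o := by
    rw [ho, ha]; exact Nat.not_dvd_ordCompl hr (orderOf_pos g).ne'
  obtain ⟨i, j, hij⟩ : ∃ i j : ℤ, i * o + j * (r ^ (a + m) : ℕ) = 1 :=
    Int.isCoprime_iff_nat_coprime.2 (by simpa using ((hr.coprime_iff_not_dvd.2 hcop).pow_left (a + m)).symm)
  set u := g ^ ((o : ℤ) * i) with hu
  set w := g ^ (((r ^ (a + m) : ℕ) : ℤ) * j) with hw
  have huw : u * w = g := by
    rw [hu, hw, ← zpow_add, show (o : ℤ) * i + ((r ^ (a + m) : ℕ) : ℤ) * j = 1 by linarith [hij], zpow_one]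
  have hu1 : IsPElem r u := ⟨a, by
    rw [hu, zpow_mul, zpow_natCast, ← zpow_natCast ((g ^ o) ^ i), ← zpow_mul, mul_comm, zpow_mul, zpow_natCast,
      ← pow_mul, mul_comm o, hod, pow_orderOf_eq_one, one_zpow]⟩
  have hwN : w ∈ N := by
    rw [hw, zpow_mul, zpow_natCast]
    exact N.zpow_mem (by rw [pow_add, mul_comm, pow_mul]; exact N.pow_mem hm _) _
  have huN : u ∉ N := fun h => hg (huw ▸ N.mul_mem h hwN)
  obtain ⟨x, hx⟩ := hcam u huN w hwN
  exact huw ▸ hx ▸ hu1.conj x

theorem exists_part_outside {N : Subgroup G} {g : G} (hg : g ∉ N) :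
    ∃ p : ℕ, p.Prime ∧ ∃ k : ℕ, IsPElem p (g ^ k) ∧ g ^ k ∉ N := exists_part hg

/-- A shared prime gives a section of type `(r, r)`. -/
theorem hypX_of_shared {N : Subgroup G} [N.Normal] (hcam : ∀ g : G, g ∉ N → ∀ n ∈ N, ∃ x : G, x * g * x⁻¹ = g * n)
    {r : ℕ} [hr : Fact r.Prime] (hrN : r ∣ Nat.card N) (hri : r ∣ N.index) : HypX N r := by
  classical
  set π := QuotientGroup.mk' N with hπ
  have hπs : Function.Surjective π := QuotientGroup.mk'_surjective N
  obtain ⟨P⟩ : Nonempty (Sylow r G) := inferInstance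
  set Pb := P.mapSurjective hπs with hPb
  have hPb1 : (Pb : Subgroup (G ⧸ N)) ≠ ⊥ := Pb.ne_bot_of_dvd_card (by rwa [← Subgroup.index_eq_card])
  by_cases hE : ∃ A B : Subgroup ↥(Pb : Subgroup (G ⧸ N)), Nat.card A = r ∧ Nat.card B = r ∧ A ≠ B
  · obtain ⟨A, B, hA, hB, hAB⟩ := hE
    haveI : Nontrivial ↥(Pb : Subgroup (G ⧸ N)) := (Subgroup.nontrivial_iff_ne_bot _).2 hPb1
    have hc0 : Nat.card (Subgroup.center ↥(Pb : Subgroup (G ⧸ N))) ≠ 1 := fun h => by
      have := Pb.2.center_nontrivial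
      exact (not_subsingleton _) (Finite.card_le_one_iff_subsingleton.1 h.le)
    obtain ⟨k, hk⟩ := IsPGroup.iff_card.1 (Pb.2.to_subgroup (Subgroup.center ↥(Pb : Subgroup (G ⧸ N))))
    have hk0 : k ≠ 0 := fun h => hc0 (by rw [hk, h, pow_zero])
    obtain ⟨z, hz⟩ := exists_prime_orderOf_dvd_card' r (hk ▸ dvd_pow_self r hk0 :
      r ∣ Nat.card (Subgroup.center ↥(Pb : Subgroup (G ⧸ N))))
    set a : ↥(Pb : Subgroup (G ⧸ N)) := z.1 with ha
    have haz : orderOf a = r := by rw [ha, Subgroup.orderOf_coe, hz]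
    obtain ⟨C, hC, hCa⟩ : ∃ C : Subgroup ↥(Pb : Subgroup (G ⧸ N)), Nat.card C = r ∧ C ≠ Subgroup.zpowers a := by
      by_cases h : A = Subgroup.zpowers a
      · exact ⟨B, hB, fun e => hAB (h.trans e.symm)⟩
      · exact ⟨A, hA, h⟩
    have hinf : C ⊓ Subgroup.zpowers a = ⊥ := by
      refine Subgroup.card_eq_one.1 ?_
      rcases (Nat.dvd_prime hr.out).1 (hC ▸ Subgroup.card_dvd_of_le (inf_le_left : C ⊓ Subgroup.zpowers a ≤ C)) with h | h
      · exact h
      · exact absurd ((Subgroup.eq_of_le_of_card_ge inf_le_left (by rw [h, hC])).symm.trans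
          (Subgroup.eq_of_le_of_card_ge inf_le_right (by rw [h, Nat.card_zpowers, haz]))) hCa
    have hcen : Subgroup.zpowers a ≤ Subgroup.center _ := by rw [Subgroup.zpowers_le]; exact z.2
    haveI : (Subgroup.zpowers a).Normal := ⟨fun x hx g => by
      rw [Subgroup.mem_center_iff.1 (hcen hx) g, mul_inv_cancel_right]; exact hx⟩
    set E := C ⊔ Subgroup.zpowers a with hE
    have hEcard : Nat.card E = r * r := by
      have := ZJ.card_sup_mul_card_inf_of_le_normalizer (A := C) (B := Subgroup.zpowers a)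
        (le_top.trans_eq (Subgroup.normalizer_eq_top _).symm)
      rwa [hinf, Subgroup.card_bot, mul_one, hC, Nat.card_zpowers, haz] at this
    have hEpow : ∀ e ∈ E, e ^ r = 1 := by
      intro e he
      obtain ⟨c, hc, d, hd, rfl⟩ := Subgroup.mem_sup_of_normal_right.1 he
      have h1 : c ^ r = 1 := by
        have := congrArg Subtype.val (pow_card_eq_one' (x := (⟨c, hc⟩ : C)))
        rwa [hC] at this
      have h2 : d ^ r = 1 := by
        obtain ⟨i, rfl⟩ := Subgroup.mem_zpowers_iff.1 hd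
        rw [← zpow_natCast (a ^ i), ← zpow_mul, mul_comm, zpow_mul, zpow_natCast,
          orderOf_dvd_iff_pow_eq_one.1 haz.dvd, one_zpow]
      rw [Commute.mul_pow (Subgroup.mem_center_iff.1 (hcen hd) c), h1, h2, one_mul]
    refine ⟨(E.map (Pb : Subgroup (G ⧸ N)).subtype).comap π, fun n hn => ?_, ?_, ?_, ?_⟩
    · rw [Subgroup.mem_comap, show π n = 1 from (QuotientGroup.eq_one_iff n).2 hn]; exact one_mem _
    · have h := Subgroup.relIndex_ker (K := (E.map (Pb : Subgroup (G ⧸ N)).subtype).comap π) π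
      rw [hπ, QuotientGroup.ker_mk'] at h
      rw [h, Subgroup.map_comap_eq_self_of_surjective hπs,
        Subgroup.card_map_of_injective (Pb : Subgroup (G ⧸ N)).subtype_injective, hEcard]
    · rintro x ⟨e, he, hex⟩
      refine (QuotientGroup.eq_one_iff (x ^ r)).1 ?_
      show π (x ^ r) = 1
      rw [map_pow, ← hex, ← map_pow, hEpow e he, map_one]
    · rintro x ⟨e, he, hex⟩ hxN
      refine isPElem_of_outside hcam hr.out hxN (m := 1) ?_
      rw [pow_one]
      refine (QuotientGroup.eq_one_iff (x ^ r)).1 ?_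
      show π (x ^ r) = 1
      rw [map_pow, ← hex, ← map_pow, hEpow e he, map_one]
  · exfalso
    push Not at hE
    obtain ⟨c, hc1, hcmax⟩ : ∃ c : ↥(Pb : Subgroup (G ⧸ N)), c ≠ 1 ∧ ∀ k : ℕ,
        r ^ k ∣ Nat.card (Subgroup.centralizer ({(c : G ⧸ N)} : Set (G ⧸ N))) → r ^ k ∣ orderOf c := by
      have hcyc : IsCyclic ↥(Pb : Subgroup (G ⧸ N)) →
          ∃ c : ↥(Pb : Subgroup (G ⧸ N)), c ≠ 1 ∧ ∀ k : ℕ,
            r ^ k ∣ Nat.card (Subgroup.centralizer ({(c : G ⧸ N)} : Set (G ⧸ N))) → r ^ k ∣ orderOf c := by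
        intro h
        obtain ⟨c, hc⟩ := h.exists_generator
        refine ⟨c, fun h1 => hPb1 ?_, fun k hk => ?_⟩
        · rw [eq_bot_iff]
          intro x hx
          obtain ⟨i, hi⟩ := Subgroup.mem_zpowers_iff.1 (hc ⟨x, hx⟩)
          rw [h1, one_zpow] at hi
          exact Subgroup.mem_bot.2 (congrArg Subtype.val hi).symm
        · rw [orderOf_eq_card_of_forall_mem_zpowers hc]
          exact Pb.pow_dvd_card_of_pow_dvd_card (hk.trans (Subgroup.card_subgroup_dvd_card _))
      rcases Hall.Struct.cyclic_or_quaternion_of_unique r Pb.2 hE with h | ⟨rfl, m, ⟨e⟩⟩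
      · exact hcyc h
      rcases Nat.eq_zero_or_pos m with rfl | hm
      · haveI : IsCyclic (QuaternionGroup (2 ^ 0)) := by
          simpa using QuaternionGroup.quaternionGroup_one_isCyclic
        exact hcyc (isCyclic_of_surjective e.symm.toMonoidHom e.symm.surjective)
      have h4 : 2 ≤ 2 ^ m := Nat.le_self_pow hm.ne' 2
      haveI : NeZero (2 ^ m) := ⟨by positivity⟩
      set c := e.symm (QuaternionGroup.a 1) with hc
      have hco : orderOf c = 2 * 2 ^ m := by rw [hc, MulEquiv.orderOf_eq, QuaternionGroup.orderOf_a_one]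
      have hcard : Nat.card ↥(Pb : Subgroup (G ⧸ N)) = 2 ^ (m + 2) := by
        rw [Nat.card_congr e.toEquiv, Nat.card_eq_fintype_card, QuaternionGroup.card]; ring
      refine ⟨c, fun h => ?_, fun k hk => ?_⟩
      · rw [h, orderOf_one] at hco; omega
      · rw [hco, show 2 * 2 ^ m = 2 ^ (m + 1) by ring]
        refine pow_dvd_pow 2 (le_of_not_gt fun hkm => ?_)
        have hidx : ¬ 2 ∣ (Subgroup.centralizer ({(c : G ⧸ N)} : Set (G ⧸ N))).index := by
          intro hd
          have h1 : 2 ^ (m + 2) * 2 ∣ Nat.card (G ⧸ N) := by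
            rw [← (Subgroup.centralizer ({(c : G ⧸ N)} : Set (G ⧸ N))).card_mul_index]
            exact mul_dvd_mul ((pow_dvd_pow 2 (by omega)).trans hk) hd
          have h2 := Pb.pow_dvd_card_of_pow_dvd_card (n := m + 3) (by rwa [pow_succ])
          rw [hcard] at h2
          exact absurd (Nat.pow_dvd_pow_iff_le_right (le_refl 2) |>.1 h2) (by omega)
        obtain ⟨g, hg⟩ := QBaer.exists_sylow_le hidx Pb
        set d : G ⧸ N := g⁻¹ * c * g with hd
        have hdc : ∀ v ∈ Pb, v * d = d * v := by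
          intro v hv
          have h1 : g * v * g⁻¹ ∈ MulAut.conj g • (Pb : Subgroup (G ⧸ N)) :=
            mem_conj_smul_iff.2 (by rwa [show g⁻¹ * (g * v * g⁻¹) * g = v by group])
          have h2 := Subgroup.mem_centralizer_singleton_iff.1 (hg h1)
          calc v * d = g⁻¹ * (g * v * g⁻¹ * c) * g := by rw [hd]; group
            _ = g⁻¹ * ((c : G ⧸ N) * (g * v * g⁻¹)) * g := by rw [h2]
            _ = d * v := by rw [hd]; group
        have hdp : IsPElem 2 d := by
          have := (QBaer.isPElem_of_mem Pb.2 c.2).conj g⁻¹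
          rwa [inv_inv] at this
        have hdP : d ∈ Pb := QBaer.mem_of_centralises Pb hdp hdc
        have h3 : ∀ y : QuaternionGroup (2 ^ m), e ⟨d, hdP⟩ * y = y * e ⟨d, hdP⟩ := by
          intro y
          obtain ⟨w, rfl⟩ := e.surjective y
          rw [← map_mul, ← map_mul, show (⟨d, hdP⟩ * w : ↥(Pb : Subgroup (G ⧸ N))) = w * ⟨d, hdP⟩ from
            Subtype.ext (hdc w w.2).symm]
        have h5 : e ⟨d, hdP⟩ ^ 2 = 1 := by
          rcases hq : e ⟨d, hdP⟩ with i | i
          · have h6 := h3 (QuaternionGroup.xa 0)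
            rw [hq, QuaternionGroup.a_mul_xa, QuaternionGroup.xa_mul_a] at h6
            have h7 := QuaternionGroup.xa.inj h6
            rw [sq, QuaternionGroup.a_mul_a, QuaternionGroup.one_def]
            congr 1
            linear_combination -h7
          · exfalso
            have h6 := h3 (QuaternionGroup.a 1)
            rw [hq, QuaternionGroup.a_mul_xa, QuaternionGroup.xa_mul_a] at h6
            have h7 : ((2 : ℕ) : ZMod (2 * 2 ^ m)) = 0 := by
              push_cast
              linear_combination QuaternionGroup.xa.inj h6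
            have h8 := Nat.le_of_dvd two_pos ((ZMod.natCast_eq_zero_iff 2 _).1 h7 :)
            omega
        have h9 : orderOf (c : G ⧸ N) ≤ 2 := by
          have h10 : d ^ 2 = 1 := by
            have := congrArg (fun y => ((e.symm y : ↥(Pb : Subgroup (G ⧸ N))) : G ⧸ N)) h5
            simpa using this
          refine Nat.le_of_dvd two_pos (orderOf_dvd_of_pow_eq_one ?_)
          rw [show (c : G ⧸ N) = g * d * g⁻¹ by rw [hd]; group, conj_pow, h10, mul_one, mul_inv_cancel]
        rw [Subgroup.orderOf_coe, hco] at h9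
        omega
    -- lift
    obtain ⟨y, hy, hyc⟩ : ∃ y ∈ P, π y = (c : G ⧸ N) := c.2
    have hyN : y ∉ N := fun h => hc1 (Subtype.ext (hyc.symm.trans ((QuotientGroup.eq_one_iff y).2 h)))
    obtain ⟨z, hzN, hz1, hzP, hzy⟩ : ∃ z ∈ N, z ≠ 1 ∧ z ∈ P ∧ y * z = z * y := by
      set M : Subgroup ↥(P : Subgroup G) := N.subgroupOf P with hM
      have hM1 : Nontrivial M := by
        obtain ⟨S⟩ : Nonempty (Sylow r N) := inferInstance
        obtain ⟨Q, hQ⟩ := (S.2.map N.subtype).exists_le_sylow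
        obtain ⟨g, hg⟩ := MulAction.exists_smul_eq G Q P
        haveI : Nontrivial ↥(S : Subgroup N) := (Subgroup.nontrivial_iff_ne_bot _).2 (S.ne_bot_of_dvd_card hrN)
        obtain ⟨s, hs⟩ := exists_ne (1 : ↥(S : Subgroup N))
        refine ⟨⟨⟨g * ((s : N) : G) * g⁻¹, ?_⟩, ?_⟩, 1, fun h => ?_⟩
        · rw [← hg]
          show g * ((s : N) : G) * g⁻¹ ∈ ((g • Q : Sylow r G) : Subgroup G)
          rw [Sylow.coe_subgroup_smul, mem_conj_smul_iff, show g⁻¹ * (g * ((s : N) : G) * g⁻¹) * g = (s : N) by group]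
          exact hQ ⟨_, s.2, rfl⟩
        · exact (inferInstance : N.Normal).conj_mem _ (s : N).2 g
        · have h2 : g * ((s : N) : G) * g⁻¹ = 1 := congrArg Subtype.val (congrArg Subtype.val h)
          rw [mul_inv_eq_one, mul_eq_left] at h2
          exact hs (Subtype.ext (Subtype.ext h2))
      obtain ⟨k, hk⟩ := IsPGroup.iff_card.1 (P.2.to_subgroup M)
      have hk0 : k ≠ 0 := fun h => by
        rw [h, pow_zero] at hk
        exact (not_subsingleton M) (Finite.card_le_one_iff_subsingleton.1 hk.le)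
      have hfix := PReduced.inf_center_ne_bot (N := M) P.2 ((Subgroup.nontrivial_iff_ne_bot _).1 hM1)
      obtain ⟨⟨z, hz⟩, hzmem, hz1⟩ := (Subgroup.bot_or_exists_ne_one _).resolve_left hfix
      exact ⟨z, hzmem.1, fun h => hz1 (Subtype.ext h), hz,
        congrArg Subtype.val (Subgroup.mem_center_iff.1 hzmem.2 ⟨y, hy⟩)⟩
    set Y := Subgroup.closure ({y, z} : Set G) with hY
    have hYP : Y ≤ P := (Subgroup.closure_le _).2 (by
      rintro v (rfl | rfl)
      · exact hy
      · exact hzP)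
    have hYC : Y ≤ Subgroup.centralizer ({y} : Set G) := (Subgroup.closure_le _).2 (by
      rintro v (rfl | rfl)
      · exact Subgroup.mem_centralizer_singleton_iff.2 rfl
      · exact Subgroup.mem_centralizer_singleton_iff.2 hzy.symm)
    obtain ⟨j, hj⟩ := IsPGroup.iff_card.1 (P.2.to_le hYP)
    have hdvd : r * orderOf c ∣ Nat.card Y := by
      rw [← Subgroup.relIndex_bot_left Y, ← Subgroup.relIndex_mul_relIndex ⊥ (N ⊓ Y) Y bot_le inf_le_right,
        Subgroup.relIndex_bot_left, Subgroup.inf_relIndex_right]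
      have hk2 := Subgroup.relIndex_ker (K := Y) (QuotientGroup.mk' N)
      rw [QuotientGroup.ker_mk'] at hk2
      rw [hk2]
      refine mul_dvd_mul ?_ ?_
      · obtain ⟨i, hi⟩ := IsPGroup.iff_card.1 (P.2.to_le (inf_le_right.trans hYP) : IsPGroup r ↥(N ⊓ Y))
        rw [hi]
        refine dvd_pow_self r fun h => hz1 ?_
        have h2 : z ∈ N ⊓ Y := ⟨hzN, Subgroup.subset_closure (by simp)⟩
        rw [h, pow_zero, Subgroup.card_eq_one] at hi
        rwa [hi, Subgroup.mem_bot] at h2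
      · rw [← Subgroup.orderOf_coe, ← hyc, ← Nat.card_zpowers]
        refine Subgroup.card_dvd_of_le ?_
        rw [Subgroup.zpowers_le]
        exact ⟨y, Subgroup.subset_closure (by simp), rfl⟩
    have h1 := Subgroup.card_dvd_of_le hYC
    rw [(Cfsg.Agent.S4142.result N).1 hcam y hyN, hj, show (QuotientGroup.mk y : G ⧸ N) = c from hyc] at h1
    have h2 : Nat.card Y ∣ orderOf c := hj ▸ hcmax j h1
    have h3 := Nat.le_of_dvd (orderOf_pos c) (hdvd.trans h2)
    nlinarith [hr.out.two_le, orderOf_pos c]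

theorem trichotomy (N : Subgroup G) [N.Normal]
    (hcam : ∀ g : G, g ∉ N → ∀ n ∈ N, ∃ x : G, x * g * x⁻¹ = g * n) :
    (∀ x ∈ N, x ≠ 1 → Subgroup.centralizer ({x} : Set G) ≤ N) ∨ IsPrimePow (Nat.card N) ∨ IsPrimePow N.index := by
  by_cases hsh : ∃ r : ℕ, r.Prime ∧ r ∣ Nat.card N ∧ r ∣ N.index
  · right
    obtain ⟨r, hr, hrN, hri⟩ := hsh
    haveI := Fact.mk hr
    have hX := hypX_of_shared hcam hrN hri
    by_cases ht : ∃ t : ℕ, t.Prime ∧ t ∣ N.index ∧ t ≠ r
    · left
      obtain ⟨t, ht, hti, htr⟩ := ht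
      haveI := Fact.mk ht
      by_cases htN : t ∣ Nat.card N
      · exfalso
        have h := eq_bot_of_two_aux (r := r) (t := t) (Ne.symm htr) _ G N inferInstance rfl hX
          (hypX_of_shared hcam htN hti)
        rw [h, Subgroup.card_bot] at hrN
        exact hr.not_dvd_one hrN
      -- `N` is nilpotent
      obtain ⟨b, hb⟩ := exists_prime_orderOf_dvd_card' (G := G ⧸ N) t (by rwa [← Subgroup.index_eq_card])
      obtain ⟨z, rfl⟩ := QuotientGroup.mk_surjective b
      have hzN : z ∉ N := fun h => by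
        rw [(QuotientGroup.eq_one_iff z).2 h, orderOf_one] at hb
        exact ht.ne_one hb.symm
      have hz1 : z ^ t ∈ N := by
        rw [← QuotientGroup.eq_one_iff, QuotientGroup.mk_pow, ← hb, pow_orderOf_eq_one]
      have hz2 : z ^ t = 1 := by
        obtain ⟨k, hk⟩ := isPElem_of_outside hcam ht hzN (m := 1) (by rwa [pow_one])
        refine eq_one_of_isPElem ht ⟨k, by rw [← pow_mul, mul_comm, pow_mul, hk, one_pow]⟩ htN ?_
        exact congrArg Subtype.val (pow_card_eq_one' (x := (⟨_, hz1⟩ : N)))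
      haveI : Group.IsNilpotent N := by
        refine ZJ.isNilpotent_of_fixedPointFree ht (α := MulAut.conjNormal z) (fun v hv => ?_) ?_
        · have hv' : z * (v : G) * z⁻¹ = v := by
            rw [← MulAut.conjNormal_apply]; exact congrArg Subtype.val hv
          have hcomm : Commute z (v : G) := mul_inv_eq_iff_eq_mul.1 hv'
          obtain ⟨k, hk⟩ := isPElem_of_outside hcam ht (g := z * v)
            (fun h => hzN (by simpa using N.mul_mem h (N.inv_mem v.2))) (m := 1) (by
              rw [pow_one, hcomm.mul_pow, hz2, one_mul]; exact N.pow_mem v.2 t)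
          refine Subtype.ext (eq_one_of_isPElem ht ⟨k + 1, ?_⟩ htN
            (congrArg Subtype.val (pow_card_eq_one' (x := v))))
          have h2 : (z * (v : G)) ^ t ^ (k + 1) = 1 := by rw [pow_succ, pow_mul, hk, one_pow]
          rwa [hcomm.mul_pow, show z ^ t ^ (k + 1) = 1 by rw [pow_succ', pow_mul, hz2, one_pow], one_mul] at h2
        · rw [← map_pow, hz2, map_one]
      obtain ⟨R⟩ : Nonempty (Sylow r N) := inferInstance
      haveI hRn : (R : Subgroup N).Normal :=
        Sylow.normal_of_normalizerCondition Group.normalizerCondition_of_isNilpotent R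
      haveI := R.characteristic_of_normal hRn
      set W : Subgroup G := (R : Subgroup N).map N.subtype with hW
      haveI : W.Normal := inferInstance
      have hWN : W ≤ N := Subgroup.map_subtype_le _
      set f : ↥N →* ↥(N.map (QuotientGroup.mk' W)) := (QuotientGroup.mk' W).subgroupMap N
      have hcard : Nat.card ↥(N.map (QuotientGroup.mk' W)) = (R : Subgroup N).index := by
        rw [← Subgroup.relIndex_ker, QuotientGroup.ker_mk', Subgroup.relIndex, Subgroup.subgroupOf, hW,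
          Subgroup.comap_map_eq_self_of_injective N.subtype_injective]
      have h := base (r := r) (hyp_quotient hX W hWN) (by rw [hcard]; exact R.not_dvd_index)
        (Group.nilpotent_of_surjective f ((QuotientGroup.mk' W).subgroupMap_surjective N))
      rw [Subgroup.map_eq_bot_iff, QuotientGroup.ker_mk'] at h
      obtain ⟨k, hk⟩ := IsPGroup.iff_card.1
        ((le_antisymm h hWN) ▸ (R.2.map N.subtype) : IsPGroup r N)
      refine ⟨r, k, hr.prime, Nat.pos_of_ne_zero fun h0 => ?_, hk.symm⟩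
      rw [hk, h0, pow_zero] at hrN
      exact hr.not_dvd_one hrN
    · right
      push Not at ht
      refine ⟨r, N.index.primeFactorsList.length, hr.prime, ?_,
        (Nat.eq_prime_pow_of_unique_prime_dvd Subgroup.index_ne_zero_of_finite fun {d} hd hdi => ht d hd hdi).symm⟩
      refine List.length_pos_of_mem ((Nat.mem_primeFactorsList Subgroup.index_ne_zero_of_finite).2 ⟨hr, hri⟩)
  · left
    intro x hx hx1 y hy
    by_contra hyN
    obtain ⟨r, hr, k, hk, hkN⟩ := exists_part hyN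
    have hri : r ∣ N.index := by
      obtain ⟨l, hl⟩ := hk
      have h1 : (QuotientGroup.mk (y ^ k) : G ⧸ N) ^ r ^ l = 1 := by rw [← QuotientGroup.mk_pow, hl]; rfl
      obtain ⟨i, -, hi⟩ := (Nat.dvd_prime_pow hr).1 (orderOf_dvd_of_pow_eq_one h1)
      have hi0 : i ≠ 0 := fun h0 => hkN ((QuotientGroup.eq_one_iff _).1
        (orderOf_eq_one_iff.1 (by rw [hi, h0, pow_zero])))
      rw [Subgroup.index_eq_card]
      exact (dvd_pow_self r hi0).trans (hi ▸ orderOf_dvd_natCard _)
    have hrN : ¬ r ∣ Nat.card N := fun h => hsh ⟨r, hr, h, hri⟩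
    have hcomm : Commute (y ^ k) x := (show Commute y x from Subgroup.mem_centralizer_singleton_iff.1 hy).pow_left k
    obtain ⟨a, ha⟩ := hcam _ hkN x hx
    obtain ⟨l, hl⟩ := hk
    have h1 : (y ^ k * x) ^ r ^ l = 1 := by rw [← ha, conj_pow, hl, mul_one, mul_inv_cancel]
    rw [hcomm.mul_pow, hl, one_mul] at h1
    exact hx1 (eq_one_of_isPElem hr ⟨l, h1⟩ hrN (congrArg Subtype.val (pow_card_eq_one' (x := (⟨x, hx⟩ : N)))))

end CfsgLib.CaminaPair
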